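import Groth.Agent.IntMultLib.Cartier
import Groth.Agent.FComplLib.Modules
import Groth.Agent.SMTLib.CMQuot
import Groth.Agent.CatLib.Completion
import Groth.Agent.EquidimLib.DimBetween
import Groth.Agent.DimIneqLib.Dim
import Groth.Prelude.Def_ClSub2
import Groth.Prelude.Def_CAlg

/-!
# Cohen–Macaulay schemes over a field and their effective Cartier divisors: dimensions
-/

set_option autoImplicit false
set_option linter.style.haveILetI false
set_option backward.isDefEq.respectTransparency false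
set_option backward.isDefEq.respectTransparency.types false
set_option maxHeartbeats 1000000

universe u

open CategoryTheory CategoryTheory.Limits AlgebraicGeometry

namespace Groth.Agent.DivDualLib

variable {X : Scheme.{u}}

theorem exists_closedPoint_of_isClosed [CompactSpace X] {S : Set X} (hS : IsClosed S) (hne : S.Nonempty) :
    ∃ x ∈ S, IsClosed ({x} : Set X) :=
  hS.exists_closed_singleton hne

/-- Every component has full dimension when the closed points have Cohen–Macaulay local rings of dimension `n`. -/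
theorem component_dim [CompactSpace X] [IsLocallyNoetherian X] {n : ℕ} (hn : topologicalKrullDim X = n)
    (hCM : ∀ x : X, LocCoh.IsCohenMacaulayLocalRing (X.presheaf.stalk x))
    (heq : ∀ x : X, IsClosed ({x} : Set X) → ringKrullDim (X.presheaf.stalk x) = n)
    {Z : Set X} (hZ : Z ∈ irreducibleComponents X) : topologicalKrullDim Z = (n : WithBot ℕ∞) := by
  refine le_antisymm ((topologicalKrullDim_subspace_le X Z).trans hn.le) ?_
  have hZc := isClosed_of_mem_irreducibleComponents Z hZ
  obtain ⟨x, hxZ, hx⟩ := exists_closedPoint_of_isClosed hZc hZ.1.nonempty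
  obtain ⟨η, hη⟩ := QuasiSober.sober hZ.1 hZc
  have hηx : η ⤳ x := hη.specializes hxZ
  obtain ⟨P, hP⟩ := EquidimLib.exists_stalkPt hηx
  have hmin : P.asIdeal ∈ minimalPrimes (X.presheaf.stalk x) := by
    refine ⟨⟨P.2, bot_le⟩, fun q hq hqP => ?_⟩
    have h1 : EquidimLib.stalkPt x ⟨q, hq.1⟩ ⤳ η := hP ▸ EquidimLib.specializes_stalkPt hqP
    have h2 : η ⤳ EquidimLib.stalkPt x ⟨q, hq.1⟩ := by
      refine hη.specializes ?_
      have hZ' : closure {EquidimLib.stalkPt x ⟨q, hq.1⟩} = Z := by
        have hsub : Z ⊆ closure {EquidimLib.stalkPt x ⟨q, hq.1⟩} := by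
          rw [← hη.def]; exact closure_minimal (Set.singleton_subset_iff.2 h1.mem_closure) isClosed_closure
        exact le_antisymm (hZ.2 (isIrreducible_singleton.closure) hsub) hsub
      exact hZ' ▸ subset_closure rfl
    exact (EquidimLib.le_of_stalkPt (x := x) (p := P) (q := ⟨q, hq.1⟩) (by rw [hP]; exact h2) :)
  haveI := hCM x
  have hdim := CatLib.isEquidim_of_isCM (SMTLib.isCM_of_isCohenMacaulayLocalRing (X.presheaf.stalk x))
    P.asIdeal hmin
  rw [EquidimLib.stalk_quotient_dim_eq, hP, heq x hx] at hdim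
  rw [← hdim]
  exact (Topology.IsEmbedding.inclusion (s := {v : X | η ⤳ v ∧ v ⤳ x}) (t := Z)
    fun v hv => hη.def ▸ hv.1.mem_closure).isInducing.topologicalKrullDim_le

variable [IsLocallyNoetherian X] {D : Scheme.{u}} (i : D ⟶ X) [IsClosedImmersion i]

/-- The local rings of an effective Cartier divisor. -/
theorem exists_stalk_equiv (hI : PicF.IsInvertible (ClSub.idealMod i.ker)) (d : D) :
    ∃ g : X.presheaf.stalk (i d), IsSMulRegular (X.presheaf.stalk (i d)) g ∧
      g ∈ IsLocalRing.maximalIdeal (X.presheaf.stalk (i d)) ∧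
      Nonempty ((X.presheaf.stalk (i d) ⧸ Ideal.span {g}) ≃+* D.presheaf.stalk d) := by
  obtain ⟨U, hdU, f, hf, hfU⟩ := IntMultLib.isEffCartier_of_isInvertible i.ker hI (i d)
  have hker := FComplLib.ker_stalkMap i d U hdU
  rw [hfU, Ideal.map_span, Set.image_singleton] at hker
  let g := (X.presheaf.germ U.1 (i d) hdU).hom f
  have hgm : g ∈ IsLocalRing.maximalIdeal (X.presheaf.stalk (i d)) := by
    refine IsLocalRing.le_maximalIdeal (RingHom.ker_ne_top (i.stalkMap d).hom) ?_
    rw [hker]; exact Ideal.subset_span rfl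
  letI := X.presheaf.algebra_section_stalk (⟨i d, hdU⟩ : U.1)
  haveI : IsLocalization.AtPrime (X.presheaf.stalk (i d)) (U.2.primeIdealOf ⟨i d, hdU⟩).asIdeal :=
    U.2.isLocalization_stalk ⟨i d, hdU⟩
  have hgnz : g ∈ nonZeroDivisors (X.presheaf.stalk (i d)) :=
    IsLocalization.map_nonZeroDivisors_le (U.2.primeIdealOf ⟨i d, hdU⟩).asIdeal.primeCompl
      (X.presheaf.stalk (i d)) ⟨f, hf, rfl⟩
  refine ⟨g, IsSMulRegular.of_right_eq_zero_of_smul fun y hy =>
    (mem_nonZeroDivisors_iff_right.mp hgnz) y (by rw [mul_comm]; exact hy), hgm, ⟨?_⟩⟩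
  exact (Ideal.quotEquivOfEq hker.symm).trans
    (RingHom.quotientKerEquivOfSurjective (i.stalkMap_surjective d))

theorem stalk_cm_dim {n : ℕ} (hCM : ∀ x : X, LocCoh.IsCohenMacaulayLocalRing (X.presheaf.stalk x))
    (heq : ∀ x : X, IsClosed ({x} : Set X) → ringKrullDim (X.presheaf.stalk x) = n)
    (hI : PicF.IsInvertible (ClSub.idealMod i.ker)) (d : D) :
    LocCoh.IsCohenMacaulayLocalRing (D.presheaf.stalk d) ∧
      (IsClosed ({d} : Set D) → 1 ≤ n ∧ ringKrullDim (D.presheaf.stalk d) = (n - 1 : ℕ)) := by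
  obtain ⟨g, hg, hgm, ⟨e⟩⟩ := exists_stalk_equiv i hI d
  haveI := hCM (i d)
  haveI : Nontrivial (X.presheaf.stalk (i d) ⧸ Ideal.span {g}) := e.toEquiv.nontrivial
  haveI : IsLocalRing (X.presheaf.stalk (i d) ⧸ Ideal.span {g}) := e.symm.isLocalRing
  haveI := SMTLib.isCohenMacaulayLocalRing_of_isCM (X.presheaf.stalk (i d) ⧸ Ideal.span {g})
    ((SMTLib.isCM_of_isCohenMacaulayLocalRing (X.presheaf.stalk (i d))).quotient_singleton hg hgm)
  haveI hD := SMTLib.isCohenMacaulayLocalRing_of_ringEquiv e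
  refine ⟨hD, fun hd => ?_⟩
  have hid : IsClosed ({i d} : Set X) := by
    simpa using i.isClosedEmbedding.isClosedMap _ hd
  have h := ringKrullDim_quotient_span_singleton_succ_eq_ringKrullDim hg hgm
  rw [ringKrullDim_eq_of_ringEquiv e, heq _ hid] at h
  obtain ⟨m, hm⟩ := CommAlgDim.exists_ringKrullDim_eq (R := D.presheaf.stalk d)
  rw [hm] at h
  have hmn : m + 1 = n := by exact_mod_cast h
  exact ⟨by omega, by rw [hm, show m = n - 1 by omega]⟩

theorem topologicalKrullDim_lt [CompactSpace X] {n : ℕ}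
    (hCM : ∀ x : X, LocCoh.IsCohenMacaulayLocalRing (X.presheaf.stalk x))
    (heq : ∀ x : X, IsClosed ({x} : Set X) → ringKrullDim (X.presheaf.stalk x) = n)
    (hI : PicF.IsInvertible (ClSub.idealMod i.ker)) :
    topologicalKrullDim D < (n : WithBot ℕ∞) := by
  by_contra h
  obtain ⟨z, hz⟩ := DimIneqLib.exists_stalk_of_chain (not_lt.1 h)
  haveI : CompactSpace D := i.isClosedEmbedding.compactSpace
  obtain ⟨d, hdz, hd⟩ := exists_closedPoint_of_isClosed (isClosed_closure (s := ({z} : Set D)))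
    ⟨z, subset_closure rfl⟩
  obtain ⟨P, hP⟩ := EquidimLib.exists_stalkPt (specializes_iff_mem_closure.2 hdz : z ⤳ d)
  have hle : ringKrullDim (D.presheaf.stalk z) ≤ ringKrullDim (D.presheaf.stalk d) := by
    rw [EquidimLib.stalk_dim_eq, EquidimLib.stalk_dim_eq]
    exact (Topology.IsEmbedding.inclusion (s := {v : D | v ⤳ z}) (t := {v : D | v ⤳ d})
      fun v hv => hv.trans (specializes_iff_mem_closure.2 hdz)).isInducing.topologicalKrullDim_le
  obtain ⟨h1, h2⟩ := (stalk_cm_dim i hCM heq hI d).2 hd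
  have h3 := hz.trans hle
  rw [h2] at h3
  have : n ≤ n - 1 := by exact_mod_cast h3
  omega

end Groth.Agent.DivDualLib
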