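import Groth.Agent.DivDualLib.Geom
import Groth.Agent.FieldDualLib.Basic
import Groth.Agent.ExtShLib.Dualizing
import Groth.Agent.ExtShLib.DivExt
import Groth.Agent.CurvLib.Divisor
import Groth.Agent.HomCohLib.Coh
import Groth.Agent.KFlatLib.QCohPull
import Groth.Agent.MiscFlat6.TensorGG
import Groth.Agent.IntMultLib.Positive

/-!
# The dualizing sheaf of an effective Cartier divisor
-/

set_option autoImplicit false
set_option linter.unusedSectionVars false
set_option linter.style.haveILetI false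
set_option backward.isDefEq.respectTransparency false
set_option backward.isDefEq.respectTransparency.types false
set_option maxHeartbeats 1000000
set_option synthInstance.maxHeartbeats 200000

universe u

open CategoryTheory CategoryTheory.Limits AlgebraicGeometry DerivedCategory
open Groth.Agent.Dual3Lib

attribute [local instance] HasDerivedCategory.standard

noncomputable section

namespace Groth.Agent.DivDualLib

section Push

variable {k : Type u} [Field k] {X D : Scheme.{u}} [X.Over (Spec (CommRingCat.of k))]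
  [D.Over (Spec (CommRingCat.of k))] (i : D ⟶ X) [IsClosedImmersion i]

theorem appTop_toGlobal (hi : i ≫ (X ↘ Spec (CommRingCat.of k)) = D ↘ Spec (CommRingCat.of k)) (c : k) :
    i.appTop (Coh.toGlobal (X ↘ Spec (CommRingCat.of k)) c) = Coh.toGlobal (D ↘ Spec (CommRingCat.of k)) c := by
  show i.appTop ((X ↘ Spec (CommRingCat.of k)).appTop ((Scheme.ΓSpecIso (CommRingCat.of k)).inv c)) =
    (D ↘ Spec (CommRingCat.of k)).appTop ((Scheme.ΓSpecIso (CommRingCat.of k)).inv c)
  rw [← hi, Scheme.Hom.comp_appTop]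
  rfl

instance preservesFiniteColimits_pushTop : PreservesFiniteColimits (CohTop.push i.base) :=
  CohTopLib.push_preservesFiniteColimits i.base i.isClosedEmbedding

/-- `H^p(D, M) → H^p(X, i_*M)`. -/
def pushMap (M : D.Modules) (p : ℕ) : Coh.HH D M p →+ Coh.HH X ((Scheme.Modules.pushforward i).obj M) p :=
  ExtShLib.pushH i.base ((QCohLib.toAbF D).obj M) p

theorem pushMap_bijective (M : D.Modules) (p : ℕ) : Function.Bijective (pushMap i M p) :=
  ExtShLib.pushH_bijective i.base p _

theorem pushMap_natural {M N : D.Modules} (φ : M ⟶ N) (p : ℕ) (x : Coh.HH D M p) :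
    pushMap i N p (Canon.HHlin k φ p x) =
      Canon.HHlin k ((Scheme.Modules.pushforward i).map φ) p (pushMap i M p x) :=
  ExtShLib.pushH_natural i.base ((QCohLib.toAbF D).map φ) p x

theorem HHlin_sMod {Y : Scheme.{u}} [Y.Over (Spec (CommRingCat.of k))] (M : Y.Modules) (p : ℕ) (c : k)
    (x : Coh.HH Y M p) :
    Canon.HHlin k (sMod M (Coh.toGlobal (Y ↘ Spec (CommRingCat.of k)) c)) p x = c • x := rfl

theorem pushMap_smul (hi : i ≫ (X ↘ Spec (CommRingCat.of k)) = D ↘ Spec (CommRingCat.of k)) (M : D.Modules) (p : ℕ)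
    (c : k) (x : Coh.HH D M p) : pushMap i M p (c • x) = c • pushMap i M p x := by
  rw [← HHlin_sMod M p c x, pushMap_natural, ← appTop_toGlobal i hi c, sMod_pushforward]
  exact HHlin_sMod _ p c _

/-- `H^p(D, M) = H^p(X, i_*M)`, linearly. -/
def pushEquiv (hi : i ≫ (X ↘ Spec (CommRingCat.of k)) = D ↘ Spec (CommRingCat.of k)) (M : D.Modules) (p : ℕ) :
    Coh.HH D M p ≃ₗ[k] Coh.HH X ((Scheme.Modules.pushforward i).obj M) p :=
  LinearEquiv.ofBijective
    { toFun := pushMap i M p
      map_add' := map_add _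
      map_smul' := pushMap_smul i hi M p } (pushMap_bijective i M p)

theorem pushEquiv_natural (hi : i ≫ (X ↘ Spec (CommRingCat.of k)) = D ↘ Spec (CommRingCat.of k))
    {M N : D.Modules} (φ : M ⟶ N) (p : ℕ) (x : Coh.HH D M p) :
    pushEquiv i hi N p (Canon.HHlin k φ p x) =
      Canon.HHlin k ((Scheme.Modules.pushforward i).map φ) p (pushEquiv i hi M p x) :=
  pushMap_natural i φ p x

end Push

section Class

variable {X D : Scheme.{u}} (i : D ⟶ X) [IsClosedImmersion i]

/-- The universal class in `Ext¹(i_* i^*(L ⊗ W), W)` when `i_*O` has no maps to `W`. -/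
theorem exists_class [HasExt.{u} X.Modules] (hI : PicF.IsInvertible (ClSub.idealMod i.ker)) {L : X.Modules}
    (hL : ClSub.IsInverseOf L (ClSub.idealMod i.ker)) (W : X.Modules) (J : InjectiveResolution W)
    (h0 : IsZero (CohCmpLib.homMod (ExtShLib.pO i) W)) :
    ∃ e : Abelian.Ext ((Scheme.Modules.pushforward i).obj ((Scheme.Modules.pullback i).obj (CohB1.tensorMod L W))) W 1,
      ∀ A : D.Modules, Function.Bijective fun φ : A ⟶ (Scheme.Modules.pullback i).obj (CohB1.tensorMod L W) =>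
        (Abelian.Ext.mk₀ ((Scheme.Modules.pushforward i).map φ)).comp e (zero_add 1) := by
  obtain ⟨q⟩ := ExtShLib.nonempty_push_iso_quotMod i
  obtain ⟨eL⟩ := hL
  let S := CurvLib.idealSeq i.ker
  have hS : S.ShortExact := CurvLib.idealSeq_shortExact i.ker
  let e₂ : S.X₂ ≅ Coh.structureModule X := Iso.refl _
  have hC := ExtShLib.seqCx_shortExact J hS
  have h2 : ∀ p, IsZero ((ExtShLib.hcx S.X₂ J).homology (p + 1)) :=
    ExtShLib.isZero_hcx_of_isFinLocFree J (ExtShLib.isFinLocFree_structureModule X)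
  have hiso : ∀ {A B : X.Modules} (f : A ≅ B), IsIso (PnDualLib.preMap f.hom W) := fun f =>
    ⟨PnDualLib.preMap f.inv W, by rw [ExtShLib.preMap_comp, Iso.inv_hom_id, ExtShLib.preMap_id],
      by rw [ExtShLib.preMap_comp, Iso.hom_inv_id, ExtShLib.preMap_id]⟩
  have hzero : IsZero (CohCmpLib.homMod S.X₃ W) := by
    haveI := hiso q
    exact h0.of_iso (asIso (PnDualLib.preMap q.hom W)).symm
  let δ₀ := hC.δ 0 1 (by simp)
  haveI hδ : Epi δ₀ := (hC.homology_exact₁ 0 1 (by simp)).epi_f ((h2 0).eq_of_tgt _ _)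
  let c : cokernel (HomologicalComplex.homologyMap (ExtShLib.preCx J S.f) 0) ≅ (ExtShLib.hcx S.X₃ J).homology 1 :=
    (cokernelIsCokernel _).coconePointUniqueUpToIso
      (haveI : Epi (ShortComplex.mk _ _ (hC.comp_δ 0 1 (by simp))).g := hδ
       (hC.homology_exact₃ 0 1 rfl).gIsCokernel)
  let α : cokernel (PnDualLib.preMap S.f W) ≅
      cokernel (HomologicalComplex.homologyMap (ExtShLib.preCx J S.f) 0) :=
    cokernel.mapIso _ _ (asIso (ExtShLib.z0 J S.X₂)) (asIso (ExtShLib.z0 J S.X₁)) (ExtShLib.z0_natural J S.f).symm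
  obtain ⟨b⟩ := ExtShLib.nonempty_coker_preMap hS e₂ eL W
  let pre : ExtShLib.hcx (ExtShLib.pO i) J ≅ ExtShLib.hcx S.X₃ J :=
    { hom := ExtShLib.preCx J q.hom
      inv := ExtShLib.preCx J q.inv
      hom_inv_id := HomologicalComplex.hom_ext _ _ fun n => by
        show PnDualLib.preMap q.hom _ ≫ PnDualLib.preMap q.inv _ = _
        rw [ExtShLib.preMap_comp, Iso.inv_hom_id, ExtShLib.preMap_id]
        rfl
      inv_hom_id := HomologicalComplex.hom_ext _ _ fun n => by
        show PnDualLib.preMap q.inv _ ≫ PnDualLib.preMap q.hom _ = _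
        rw [ExtShLib.preMap_comp, Iso.hom_inv_id, ExtShLib.preMap_id]
        rfl }
  haveI := CycKSuppLib.faithful_push i
  have hex : ∀ p < 1, (ExtShLib.kcx i J).ExactAt p := fun p hp => by
    obtain rfl : p = 0 := by omega
    obtain ⟨f⟩ := ExtShLib.nonempty_push_homology i J 0
    rw [HomologicalComplex.exactAt_iff_isZero_homology, IsZero.iff_id_eq_zero]
    refine (Scheme.Modules.pushforward i).map_injective ?_
    exact ((h0.of_iso (asIso (ExtShLib.z0 J (ExtShLib.pO i))).symm).of_iso f).eq_of_src _ _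
  obtain ⟨e, he⟩ := ExtShLib.exists_universal (ExtShLib.shriekAdj i) J 1 hex
  obtain ⟨f1⟩ := ExtShLib.nonempty_push_homology i J 1
  obtain ⟨ff⟩ := ExtShLib.push_fullyFaithful i
  let θ : (Scheme.Modules.pullback i).obj (CohB1.tensorMod L W) ≅ (ExtShLib.kcx i J).homology 1 :=
    ff.preimageIso (((ExtShLib.tensPushIso i).app (CohB1.tensorMod L W)).symm ≪≫
      ((DCoh.tensorBi (X := X)).mapIso q.symm).app _ ≪≫ b.symm ≪≫ α ≪≫ c ≪≫
      ((HomologicalComplex.homologyFunctor _ _ 1).mapIso pre).symm ≪≫ f1.symm)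
  refine ⟨(Abelian.Ext.mk₀ ((Scheme.Modules.pushforward i).map θ.hom)).comp e (zero_add 1), fun A => ?_⟩
  convert (he A).comp θ.homToEquiv.bijective using 1
  funext φ
  show _ = (Abelian.Ext.mk₀ ((Scheme.Modules.pushforward i).map (φ ≫ θ.hom))).comp e (zero_add 1)
  rw [← Abelian.Ext.comp_assoc _ _ _ (add_zero 0) (zero_add 1) (by omega), Abelian.Ext.mk₀_comp_mk₀,
    Functor.map_comp]

end Class

section Main

variable {k : Type u} [Field k] {X : Scheme.{u}} [X.Over (Spec (CommRingCat.of k))]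
  [IsProper (X ↘ Spec (CommRingCat.of k))]

/-- Two objects corepresenting the same functor on quasi-coherent modules are isomorphic. -/
theorem nonempty_iso_of_natEquiv {D : Scheme.{u}} {A B : D.Modules} (hA : Coh.IsQCoh A) (hB : Coh.IsQCoh B)
    (T : D.Modules → Type u) (T' : ∀ {F G : D.Modules}, (F ⟶ G) → T G → T F)
    (a : ∀ F : D.Modules, Coh.IsQCoh F → (F ⟶ A) ≃ T F) (b : ∀ F : D.Modules, Coh.IsQCoh F → (F ⟶ B) ≃ T F)
    (ha : ∀ {F G : D.Modules} (hF : Coh.IsQCoh F) (hG : Coh.IsQCoh G) (ψ : F ⟶ G) (φ : G ⟶ A),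
      a F hF (ψ ≫ φ) = T' ψ (a G hG φ))
    (hb : ∀ {F G : D.Modules} (hF : Coh.IsQCoh F) (hG : Coh.IsQCoh G) (ψ : F ⟶ G) (φ : G ⟶ B),
      b F hF (ψ ≫ φ) = T' ψ (b G hG φ)) :
    Nonempty (A ≅ B) :=
  ⟨{ hom := (b A hA).symm (a A hA (𝟙 A))
     inv := (a B hB).symm (b B hB (𝟙 B))
     hom_inv_id := (a A hA).injective (by
       rw [ha hA hB, Equiv.apply_symm_apply, ← hb hA hB, Category.comp_id, Equiv.apply_symm_apply])
     inv_hom_id := (b B hB).injective (by
       rw [hb hB hA, Equiv.apply_symm_apply, ← ha hB hA, Category.comp_id, Equiv.apply_symm_apply]) }⟩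

/-- **The dualizing sheaf of an effective Cartier divisor.** -/
theorem nonempty_dualizing_effCartier (n : ℕ) (hn : topologicalKrullDim ↥X = n)
    (hCM : ∀ x : X, LocCoh.IsCohenMacaulayLocalRing (X.presheaf.stalk x))
    (heq : ∀ x : X, IsClosed ({x} : Set ↥X) → ringKrullDim (X.presheaf.stalk x) = n)
    (ωX : X.Modules) (trX : Coh.HH X ωX n →ₗ[k] k) (hωX : Canon.IsRDualOver k X n ωX trX)
    {D : Scheme.{u}} [D.Over (Spec (CommRingCat.of k))] (i : D ⟶ X) [IsClosedImmersion i]
    (hi : i ≫ (X ↘ Spec (CommRingCat.of k)) = D ↘ Spec (CommRingCat.of k))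
    (hI : PicF.IsInvertible (ClSub.idealMod i.ker)) (OD : X.Modules)
    (hOD : ClSub.IsInverseOf OD (ClSub.idealMod i.ker))
    (ωD : D.Modules) (trD : Coh.HH D ωD (n - 1) →ₗ[k] k) (hωD : Canon.IsRDualOver k D (n - 1) ωD trD) :
    Nonempty (ωD ≅ (Scheme.Modules.pullback i).obj (CohB1.tensorMod OD ωX)) := by
  haveI : IsLocallyNoetherian X := LocallyOfFiniteType.isLocallyNoetherian (X ↘ Spec (CommRingCat.of k))
  haveI : CompactSpace X := QuasiCompact.compactSpace_of_compactSpace (X ↘ Spec (CommRingCat.of k))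
  haveI : IsNoetherian X := ⟨⟩
  haveI : IsLocallyNoetherian D := LocallyOfFiniteType.isLocallyNoetherian i
  haveI : CompactSpace D := i.isClosedEmbedding.compactSpace
  haveI : IsNoetherian D := ⟨⟩
  haveI : EnoughInjectives X.Modules := IsGrothendieckAbelian.enoughInjectives.{u}
  haveI : HasExt.{u} X.Modules := hasExt_of_enoughInjectives.{u} X.Modules
  rcases isEmpty_or_nonempty D with hD | hD
  · exact ⟨(IsZero.iso ((DCohRestrLib.isZero_iff_subsingleton_stalks _).2 fun x => isEmptyElim x)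
      ((DCohRestrLib.isZero_iff_subsingleton_stalks _).2 fun x => isEmptyElim x))⟩
  have hn1 : 1 ≤ n := by
    obtain ⟨d, -, hd⟩ := exists_closedPoint_of_isClosed (X := D) isClosed_univ ⟨hD.some, trivial⟩
    exact ((stalk_cm_dim i hCM heq hI d).2 hd).1
  have hdimD : topologicalKrullDim D ≤ ((n - 1 : ℕ) : WithBot ℕ∞) := by
    have h := topologicalKrullDim_lt i hCM heq hI
    by_contra hc
    obtain ⟨m, hm⟩ : ∃ m : ℕ, topologicalKrullDim D = m := by
      rcases hx : topologicalKrullDim D with _ | _ | m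
      · rw [hx] at hc; exact absurd bot_le hc
      · rw [hx] at h; exact absurd h (not_lt.2 le_top)
      · exact ⟨m, rfl⟩
    rw [hm] at h hc
    have h1 : m < n := by exact_mod_cast h
    have h2 : ¬ m ≤ n - 1 := fun h2 => hc (by exact_mod_cast h2)
    omega
  obtain ⟨ω, t, hω, ht⟩ := FieldDualLib.exists_duality' (k := k) hCM n
    (fun Z hZ => component_dim hn hCM heq hZ) hn
  haveI := hω.1
  -- the top degree pairing
  let pair : ∀ (G : X.Modules), Coh.IsQCoh G → (G ⟶ ω) ≃ Module.Dual k (Coh.HH X G n) := fun G hG =>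
    ((Functor.FullyFaithful.ofFullyFaithful (singleFunctor X.Modules 0)).homEquiv.trans
      (((shiftFunctorZero (DCoh.D X) ℤ).app (DCoh.inD X ω)).symm).homToEquiv).trans
    ((Equiv.ofBijective _ (ht G hG 0 n (by omega))).trans
      (FieldDualLib.homEquivHH (k := k) G n).symm.dualMap.toEquiv)
  have pair_nat : ∀ {F G : X.Modules} (hF : Coh.IsQCoh F) (hG : Coh.IsQCoh G) (ψ : F ⟶ G) (φ : G ⟶ ω),
      pair F hF (ψ ≫ φ) = (pair G hG φ).comp (Canon.HHlin k ψ n) := fun {F G} hF hG ψ φ => by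
    refine LinearMap.ext fun x => ?_
    show FieldDualLib.pairing t F 0 n _ (((singleFunctor X.Modules 0).map (ψ ≫ φ)) ≫ _)
        ((FieldDualLib.homEquivHH (k := k) F n).symm x) =
      FieldDualLib.pairing t G 0 n _ (((singleFunctor X.Modules 0).map φ) ≫ _)
        ((FieldDualLib.homEquivHH (k := k) G n).symm (Canon.HHlin k ψ n x))
    rw [Functor.map_comp, Category.assoc, FieldDualLib.pairing_natural]
    congr 1
    rw [LinearEquiv.eq_symm_apply, FieldDualLib.homEquivHH_natural, LinearEquiv.apply_symm_apply]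
  obtain ⟨u⟩ := nonempty_iso_of_natEquiv (D := X) hωX.1 hω.1 (fun F => Module.Dual k (Coh.HH X F n))
    (fun ψ ξ => ξ.comp (Canon.HHlin k ψ n)) (fun F hF => Equiv.ofBijective _ (hωX.2 F hF)) pair
    (fun hF hG ψ φ => LinearMap.ext fun x => by
      show trX (Sheaf.H.map ((SheafOfModules.toSheaf X.ringCatSheaf).map (ψ ≫ φ)) n x) = _
      rw [Functor.map_comp, Sheaf.H.map_comp_apply]
      rfl)
    pair_nat
  -- no maps from the divisor
  have hpush : ∀ F : D.Modules, Coh.IsQCoh F → Coh.IsQCoh ((Scheme.Modules.pushforward i).obj F) := fun F hF =>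
    QCohLib.isQCoh_pushforward i F
  obtain ⟨q⟩ := ExtShLib.nonempty_push_iso_quotMod i
  have hpO : Coh.IsCoh (ExtShLib.pO i) := QCohLib.isCoh_of_iso q (CurvLib.isCoh_quotMod i.ker)
  have hhom : IsZero (CohCmpLib.homMod (ExtShLib.pO i) ω) := by
    let G := (ExtShLib.shriek i).obj ω
    have ek : CohCmpLib.homMod (ExtShLib.pO i) ω ≅ (Scheme.Modules.pushforward i).obj G :=
      (ExtShLib.killedIso i).app ω
    have hGq : Coh.IsQCoh G := by
      haveI := (QCohLib.isCoh_of_iso ek (HomCohLib.isCoh_homMod hpO hω)).1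
      haveI := CycKSuppLib.isIso_counit i G
      exact @QCohLib.isQCoh_of_iso _ _ _ (asIso ((Scheme.Modules.pullbackPushforwardAdjunction i).counit.app G))
        (KFlatLib.isQCoh_pullback i ((Scheme.Modules.pushforward i).obj G))
    have hsub : Subsingleton (Coh.HH X ((Scheme.Modules.pushforward i).obj G) n) := by
      haveI := CurvLib.subsingleton_HH_of_dim_le G hdimD n (by omega)
      exact (pushEquiv i hi G n).symm.toEquiv.subsingleton
    have hs : Subsingleton ((Scheme.Modules.pushforward i).obj G ⟶ ω) := by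
      haveI : Subsingleton (Module.Dual k (Coh.HH X ((Scheme.Modules.pushforward i).obj G) n)) :=
        ⟨fun a b => LinearMap.ext fun x => by rw [Subsingleton.elim x 0, map_zero, map_zero]⟩
      exact (pair _ (hpush G hGq)).subsingleton
    have hG0 : IsZero G := by
      rw [IsZero.iff_id_eq_zero]
      exact ((ExtShLib.shriekAdj i).homEquiv G ω).symm.injective (hs.elim _ _)
    exact ((Scheme.Modules.pushforward i).map_isZero hG0).of_iso ek
  obtain ⟨e, he⟩ := exists_class i hI hOD ω (injectiveResolution ω) hhom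
  let Q := (Scheme.Modules.pullback i).obj (CohB1.tensorMod OD ω)
  have hQ : Coh.IsQCoh Q := by
    haveI : Coh.IsQCoh (CohB1.tensorMod ω OD) :=
      MiscFlat6.isQCoh_tensor (IntMultLib.isInvertible_of_inverse hI (KFlatLib.tensSwap _ _ ≪≫ hOD.some))
    haveI : Coh.IsQCoh (CohB1.tensorMod OD ω) :=
      @QCohLib.isQCoh_of_iso _ (CohB1.tensorMod ω OD) (CohB1.tensorMod OD ω) (KFlatLib.tensSwap _ _) inferInstance
    exact KFlatLib.isQCoh_pullback i _
  let cls : ∀ F : D.Modules, Coh.IsQCoh F → (F ⟶ Q) ≃ Module.Dual k (Coh.HH D F (n - 1)) := fun F hF =>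
    (Equiv.ofBijective _ (he F)).trans (Abelian.Ext.homAddEquiv.toEquiv.trans
      ((Equiv.ofBijective _ (ht _ (hpush F hF) 1 ((n - 1 : ℕ) : ℤ) (by omega))).trans
        ((FieldDualLib.homEquivHH (k := k) _ (n - 1)).symm.dualMap.trans
          (pushEquiv i hi F (n - 1)).dualMap).toEquiv))
  have cls_nat : ∀ {F G : D.Modules} (hF : Coh.IsQCoh F) (hG : Coh.IsQCoh G) (ψ : F ⟶ G) (φ : G ⟶ Q),
      cls F hF (ψ ≫ φ) = (cls G hG φ).comp (Canon.HHlin k ψ (n - 1)) := fun {F G} hF hG ψ φ => by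
    refine LinearMap.ext fun x => ?_
    show FieldDualLib.pairing t ((Scheme.Modules.pushforward i).obj F) 1 ((n - 1 : ℕ) : ℤ) _
        ((Abelian.Ext.mk₀ ((Scheme.Modules.pushforward i).map (ψ ≫ φ))).comp e (zero_add 1)).hom
        ((FieldDualLib.homEquivHH (k := k) _ (n - 1)).symm (pushEquiv i hi F (n - 1) x)) =
      FieldDualLib.pairing t ((Scheme.Modules.pushforward i).obj G) 1 ((n - 1 : ℕ) : ℤ) _
        ((Abelian.Ext.mk₀ ((Scheme.Modules.pushforward i).map φ)).comp e (zero_add 1)).hom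
        ((FieldDualLib.homEquivHH (k := k) _ (n - 1)).symm (pushEquiv i hi G (n - 1) (Canon.HHlin k ψ (n - 1) x)))
    rw [Abelian.Ext.comp_hom, Abelian.Ext.comp_hom, Abelian.Ext.mk₀_hom, Abelian.Ext.mk₀_hom,
      ShiftedHom.mk₀_comp, ShiftedHom.mk₀_comp, Functor.map_comp, Functor.map_comp, Category.assoc,
      FieldDualLib.pairing_natural]
    congr 1
    rw [LinearEquiv.eq_symm_apply, FieldDualLib.homEquivHH_natural, LinearEquiv.apply_symm_apply,
      pushEquiv_natural]
  obtain ⟨v⟩ := nonempty_iso_of_natEquiv hωD.1 hQ (fun F => Module.Dual k (Coh.HH D F (n - 1)))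
    (fun ψ ξ => ξ.comp (Canon.HHlin k ψ (n - 1))) (fun F hF => Equiv.ofBijective _ (hωD.2 F hF)) cls
    (fun hF hG ψ φ => LinearMap.ext fun x => by
      show trD (Sheaf.H.map ((SheafOfModules.toSheaf D.ringCatSheaf).map (ψ ≫ φ)) (n - 1) x) = _
      rw [Functor.map_comp, Sheaf.H.map_comp_apply]
      rfl)
    cls_nat
  exact ⟨v ≪≫ (Scheme.Modules.pullback i).mapIso (((DCoh.tensorBi (X := X)).obj OD).mapIso u.symm)⟩

end Main

end Groth.Agent.DivDualLib
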